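import Cfsg.Agent.H35.D4Min.Twisted
import Cfsg.Agent.H53.TwistD4Res

/-!
³D₄(q): the pairing on `Q/Z` is non-degenerate; a lower bound for invariant sets of `Q/Z`.
-/

set_option autoImplicit false
set_option linter.unusedSectionVars false

open Cfsg.Lie

namespace H35.D4Min

variable {K : Type*} [Field K] [Fintype K] {q : ℕ} {f : K ≃+* K} (hf : Frob q f)
  (hq : IsPrimePow q) (hK : Fintype.card K = q ^ 3)
include hf hq hK

theorem card_Fx : Nat.card ↥(Fx f) = q := by
  have e : ↥(Fx f) ≃ {t : K // t ^ q = t} :=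
    Equiv.subtypeEquivRight fun t => by rw [mem_Fx, hf.eq]
  rw [Nat.card_congr e]
  exact H53.card_pow_fixed hq.one_lt hK

theorem card_V8 : Nat.card (V8 f) = q ^ 8 := by
  simp only [Nat.card_prod, card_Fx hf hq hK, Nat.card_eq_fintype_card (α := K), hK]
  ring

theorem two_le : 2 ≤ q := hq.two_le

theorem f_ne_id : ∃ t : K, f t ≠ t := by
  by_contra h
  push Not at h
  have e : Fx f = ⊤ := by ext t; simpa [mem_Fx] using h t
  have := card_Fx hf hq hK
  rw [e, AddSubgroup.card_top, Nat.card_eq_fintype_card, hK] at this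
  nlinarith [two_le hf hq hK, Nat.mul_le_mul (two_le hf hq hK) (two_le hf hq hK)]

theorem exists_Tr_ne : ∃ t : K, Tr f t ≠ 0 := by
  classical
  by_contra h
  push Not at h
  open Polynomial in
  let P : K[X] := X ^ q ^ 2 + (X ^ q + X)
  have h2 := two_le hf hq hK
  have hlt : q < q ^ 2 := by nlinarith
  have hd : (Polynomial.X ^ q + Polynomial.X : Polynomial K).degree < ((q ^ 2 : ℕ) : WithBot ℕ) := by
    refine lt_of_le_of_lt (Polynomial.degree_add_le _ _) (max_lt ?_ ?_)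
    · rw [Polynomial.degree_X_pow]; exact_mod_cast hlt
    · rw [Polynomial.degree_X]; exact_mod_cast (show 1 < q ^ 2 by omega)
  have hm : P.Monic := Polynomial.monic_X_pow_add hd
  have hdeg : P.natDegree = q ^ 2 := by
    apply Polynomial.natDegree_eq_of_degree_eq_some
    show (Polynomial.X ^ q ^ 2 + (Polynomial.X ^ q + Polynomial.X) : Polynomial K).degree = _
    rw [Polynomial.degree_add_eq_left_of_degree_lt (by rwa [Polynomial.degree_X_pow]),
      Polynomial.degree_X_pow]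
  have hroot : ∀ t : K, t ∈ P.roots := by
    intro t
    rw [Polynomial.mem_roots hm.ne_zero, Polynomial.IsRoot]
    have e := h t
    rw [Tr, hf.eq (f t), hf.eq t, ← pow_mul, ← sq] at e
    simp only [P, Polynomial.eval_add, Polynomial.eval_pow, Polynomial.eval_X]
    linear_combination e
  have hle : Fintype.card K ≤ Multiset.card P.roots :=
    le_trans (Finset.card_le_card (t := P.roots.toFinset) fun t _ => Multiset.mem_toFinset.2 (hroot t))
      (Multiset.toFinset_card_le _)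
  have := hle.trans (Polynomial.card_roots' P)
  rw [hdeg, hK] at this
  exact absurd this (not_le.2 (Nat.pow_lt_pow_right (by omega) (by norm_num)))

theorem eq_zero_of_Tr {a : K} (h : ∀ t, Tr f (t * a) = 0) : a = 0 := by
  by_contra ha
  obtain ⟨t, ht⟩ := exists_Tr_ne hf hq hK
  exact ht (by simpa [ha] using h (t / a))

omit [Fintype K] hq hK in
theorem Tr_mul_fixed {a : K} (ha : a ∈ Fx f) (t : K) : Tr f (a * t) = a * Tr f t := by
  rw [mem_Fx] at ha
  simp [Tr, map_mul, ha]; ring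

theorem B_surj {v : V8 f} (hv : v ≠ 0) (e : ↥(Fx f)) : ∃ w, B hf v w = e := by
  obtain ⟨t, ht⟩ := exists_Tr_ne hf hq hK
  have key : ∀ a : K, a ≠ 0 → ∃ z, Tr f (a * z) = e := fun a ha =>
    ⟨(e : K) * (Tr f t)⁻¹ * t / a, by
      rw [mul_div_cancel₀ _ ha, Tr_mul_fixed hf (mul_mem_Fx e.2 (inv_mem_Fx (Tr_mem hf t))),
        inv_mul_cancel_right₀ ht]⟩
  by_cases hk : (v.1 : K) ≠ 0
  · refine ⟨(0, 0, 0, ⟨-((e : K) * (v.1 : K)⁻¹), neg_mem (mul_mem_Fx e.2 (inv_mem_Fx v.1.2))⟩), Subtype.ext ?_⟩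
    simp [coe_B, Tr, hk]
  by_cases hs : (v.2.2.2 : K) ≠ 0
  · refine ⟨(⟨(e : K) * (v.2.2.2 : K)⁻¹, mul_mem_Fx e.2 (inv_mem_Fx v.2.2.2.2)⟩, 0, 0, 0), Subtype.ext ?_⟩
    simp only [coe_B, Tr, mul_zero, zero_mul, map_zero, add_zero, sub_zero, ZeroMemClass.coe_zero]
    field_simp
  by_cases hu : v.2.1 ≠ 0
  · obtain ⟨z, hz⟩ := key _ hu
    refine ⟨(0, 0, z, 0), Subtype.ext ?_⟩
    rw [coe_B]
    simp only [mul_zero, zero_mul, map_zero, add_zero, sub_zero, ZeroMemClass.coe_zero, zero_sub, mul_comm z,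
      hz]
    simp [Tr]
  by_cases hw : v.2.2.1 ≠ 0
  · obtain ⟨z, hz⟩ := key _ (neg_ne_zero.2 hw)
    refine ⟨(0, z, 0, 0), Subtype.ext ?_⟩
    rw [coe_B, ← hz]
    simp [Tr, map_neg]
    ring
  push Not at hk hs hu hw
  exact absurd (show v = 0 from Prod.ext (Subtype.ext hk) (Prod.ext hu (Prod.ext hw (Subtype.ext hs)))) hv

theorem B_nondeg {v v' : V8 f} (h : ∀ w, B hf v w = B hf v' w) : v = v' := by
  by_contra hne
  obtain ⟨w, hw⟩ := B_surj hf hq hK (sub_ne_zero.2 hne) ⟨1, one_mem_Fx f⟩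
  have e := B_add_left hf (v - v') v' w
  rw [sub_add_cancel, hw, h w] at e
  have : ((⟨1, one_mem_Fx f⟩ : ↥(Fx f)) : K) = 0 := congrArg Subtype.val (right_eq_add.1 e)
  exact one_ne_zero this

omit [Fintype K] hf hq hK in
/-- Multiplication by a fixed scalar on `Q/Z`. -/
def smulV (c : K) (hc : f c = c) (v : V8 f) : V8 f :=
  (⟨c * v.1, mul_mem_Fx hc v.1.2⟩, c * v.2.1, c * v.2.2.1, ⟨c * v.2.2.2, mul_mem_Fx hc v.2.2.2.2⟩)

omit [Fintype K] hf hq hK in
theorem smulV_inj {c : K} (hc : f c = c) (hc0 : c ≠ 0) : Function.Injective (smulV c hc) := by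
  intro a b h
  simp only [smulV, Prod.mk.injEq, Subtype.mk.injEq] at h
  obtain ⟨h1, h2, h3, h4⟩ := h
  exact Prod.ext (Subtype.ext (mul_left_cancel₀ hc0 h1))
    (Prod.ext (mul_left_cancel₀ hc0 h2) (Prod.ext (mul_left_cancel₀ hc0 h3) (Subtype.ext (mul_left_cancel₀ hc0 h4))))

theorem exists_Nm {e : K} (he : f e = e) (he0 : e ≠ 0) : ∃ t : K, Nm f t = e := by
  classical
  obtain ⟨g, hg⟩ := IsCyclic.exists_generator (α := Kˣ)
  obtain ⟨i, (hi : g ^ i = Units.mk0 e he0)⟩ := mem_powers_iff_mem_zpowers.2 (hg (Units.mk0 e he0))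
  have hq1 : 1 ≤ q := le_trans (by norm_num) (two_le hf hq hK)
  have hord : orderOf g = q ^ 3 - 1 := by
    rw [orderOf_eq_card_of_forall_mem_zpowers hg, Nat.card_eq_fintype_card, Fintype.card_units, hK]
  have h1 : g ^ (i * (q - 1)) = 1 := by
    rw [pow_mul]
    refine Units.ext ?_
    have hie : ((g ^ i : Kˣ) : K) = e := by rw [hi]; rfl
    rw [Units.val_pow_eq_pow_val, hie, Units.val_one]
    refine mul_left_cancel₀ he0 ?_
    rw [mul_one, ← pow_succ', Nat.sub_add_cancel hq1, ← hf.eq, he]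
  have h2 : (q ^ 2 + q + 1) * (q - 1) = q ^ 3 - 1 := by
    zify [hq1, Nat.one_le_pow 3 q hq1]; ring
  have h3 := orderOf_dvd_of_pow_eq_one h1
  rw [hord, ← h2] at h3
  obtain ⟨m, hm⟩ := Nat.dvd_of_mul_dvd_mul_right (by have := two_le hf hq hK; omega) h3
  refine ⟨((g ^ m : Kˣ) : K), ?_⟩
  have hie : ((g ^ i : Kˣ) : K) = e := by rw [hi]; rfl
  rw [← hie, hm, mul_comm, pow_mul g m]
  simp only [Nm, hf.eq, Units.val_pow_eq_pow_val]
  ring

theorem exists_lam : ∃ t : Kˣ, (f t * f (f t)) ^ 2 ≠ (1 : K) := by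
  by_contra h
  push Not at h
  have hall : ∀ t : Kˣ, t ^ (2 * (q + q ^ 2)) = 1 := fun t => Units.ext (by
    rw [Units.val_pow_eq_pow_val, Units.val_one, ← h t, hf.eq (f t), hf.eq t]; ring)
  have hd := (FiniteField.forall_pow_eq_one_iff K _).1 hall
  rw [hK] at hd
  have h2 := two_le hf hq hK
  rcases eq_or_lt_of_le h2 with rfl | h3
  · norm_num at hd
  · have hle := Nat.le_of_dvd (by positivity) hd
    have e1 : 3 * q ^ 2 ≤ q ^ 3 := by
      rw [pow_succ' q 2]; exact Nat.mul_le_mul_right _ h3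
    have e2 : 3 * q ≤ q ^ 2 := by rw [sq]; exact Nat.mul_le_mul_right _ h3
    omega

variable (S : Set (V8 f)) (h0 : ∃ v ∈ S, v ≠ 0)
  (hA : ∀ t, ∀ v ∈ S, LA hf t v ∈ S) (hN : ∀ v ∈ S, LN v ∈ S)
  (hT : ∀ (c : Kˣ), ∀ v ∈ S, LT hf c 1 (map_one f) v ∈ S)
  (hS : ∀ (c : K) (hc : f c = c), c ≠ 0 → ∀ v ∈ S, smulV c hc v ∈ S)
include h0 hA hN hT hS

theorem exists_k_ne : ∃ v ∈ S, (v.1 : K) ≠ 0 := by
  by_contra h
  push Not at h
  obtain ⟨v, hv, hne⟩ := h0
  have hk := h v hv
  have hs : (v.2.2.2 : K) = 0 := by simpa [LN] using h _ (hN v hv)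
  have hΦ : ∀ t, Tr f (t * v.2.2.1) + Tr f (f t * f (f t) * v.2.1) = 0 := fun t => by
    have := h _ (hN _ (hA t v hv))
    simp only [LN, LA, NegMemClass.coe_neg, hs, hk, mul_zero, add_zero, zero_add, neg_eq_zero] at this
    exact this
  have hu : v.2.1 = 0 := by
    have hb : ∀ s, f s * f (f v.2.1) + f (f s) * f v.2.1 = 0 := fun s =>
      eq_zero_of_Tr hf hq hK fun t => by
        have := hΦ (t + s)
        have h1 := hΦ t
        have h2 := hΦ s
        simp only [Tr, map_add, map_mul, add_mul, mul_add, hf.three] at this h1 h2 ⊢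
        linear_combination this - h1 - h2
    have e1 := hb 1
    simp only [map_one, one_mul] at e1
    have e2 := congrArg f e1
    have e3 := congrArg f e2
    simp only [map_add, map_zero, hf.three] at e2 e3
    have hfu : f v.2.1 = v.2.1 := by linear_combination e1 - e2
    rw [hfu] at e1
    by_contra hu
    obtain ⟨s, hs'⟩ := f_ne_id hf hq hK
    have e4 := hb (f (f s))
    simp only [hfu, hf.three] at e4 e1
    have e5 : (s - f s) * v.2.1 = 0 := by linear_combination e4 - f s * e1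
    rcases mul_eq_zero.1 e5 with h' | h'
    · exact hs' (sub_eq_zero.1 h').symm
    · exact hu h'
  have hw : v.2.2.1 = 0 := eq_zero_of_Tr hf hq hK fun t => by
    have := hΦ t
    simpa [hu, Tr] using this
  exact hne (Prod.ext (Subtype.ext hk) (Prod.ext hu (Prod.ext hw (Subtype.ext hs))))

theorem orbit_bound : (q - 1) * (q ^ 3 + 1) ≤ S.ncard := by
  classical
  obtain ⟨v1, hv1, hk1⟩ := exists_k_ne hf hq hK S h0 hA hN hT hS
  have hk1f : f (v1.1 : K)⁻¹ = (v1.1 : K)⁻¹ := inv_mem_Fx v1.1.2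
  set v2 := smulV _ hk1f v1
  set v0 := LA hf (-v2.2.1) v2
  have hv0 : v0 ∈ S := hA _ _ (hS _ _ (inv_ne_zero hk1) _ hv1)
  have h10 : (v0.1 : K) = 1 := by simp [v0, v2, LA, smulV, hk1]
  have hu0 : v0.2.1 = 0 := by simp [v0, v2, LA, smulV, hk1]
  let Fu := {c : ↥(Fx f) // (c : K) ≠ 0}
  have hFu : Nat.card Fu = q - 1 := by
    have e : Fu ≃ {c : ↥(Fx f) // c ≠ 0} := Equiv.subtypeEquivRight fun c => by simp
    rw [Nat.card_congr e, Nat.card_eq_fintype_card, Fintype.card_subtype_compl,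
      Fintype.card_subtype_eq, ← Nat.card_eq_fintype_card, card_Fx hf hq hK]
  have hLA : ∀ t, Function.Injective (LA hf t) := by
    intro t a b h
    simp only [LA, Prod.mk.injEq, Subtype.mk.injEq] at h
    obtain ⟨h1, h2, h3, h4⟩ := h
    rw [h1] at h2 h3 h4
    have e2 := add_right_cancel h2
    rw [e2] at h3 h4
    have e3 := add_right_cancel (add_right_cancel (add_right_cancel h3))
    rw [e3] at h4
    exact Prod.ext h1 (Prod.ext e2 (Prod.ext e3 (Subtype.ext (add_right_cancel (add_right_cancel (add_right_cancel h4))))))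
  let fam : V8 f → Fu × K → V8 f := fun v p => smulV _ p.1.1.2 (LA hf p.2 v)
  have hinj : ∀ v v' : V8 f, (v.1 : K) = 1 → (v'.1 : K) = 1 → v.2.1 = 0 → v'.2.1 = 0 →
      ∀ p p', fam v p = fam v' p' → p = p' ∧ v = v' := by
    rintro v v' hk hk' hu hu' ⟨⟨c, hc⟩, t⟩ ⟨⟨c', hc'⟩, t'⟩ h
    have e1 : (c : K) = c' := by
      simpa [fam, smulV, LA, hk, hk'] using congrArg (fun z : V8 f => (z.1 : K)) h
    obtain rfl : c = c' := Subtype.ext e1
    have h' := smulV_inj c.2 hc h
    have e2 : t = t' := by simpa [LA, hk, hk', hu, hu'] using congrArg (fun z : V8 f => z.2.1) h'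
    subst e2
    exact ⟨rfl, hLA t h'⟩
  have hmem : ∀ v ∈ S, ∀ p, fam v p ∈ S := fun v hv p => hS _ _ p.1.2 _ (hA _ _ hv)
  have hFK : Nat.card (Fu × K) = (q - 1) * q ^ 3 := by
    rw [Nat.card_prod, hFu, Nat.card_eq_fintype_card, hK]
  by_cases huniq : ∀ v ∈ S, (v.1 : K) = 1 → v.2.1 = 0 → v = v0
  · -- a point with `k = 0`
    obtain ⟨l, hl⟩ := exists_lam hf hq hK
    have hNf : f (Nm f (l : K)) = Nm f (l : K) := Nm_mem hf _
    have hN0 : Nm f (l : K) ≠ 0 := by simp [Nm]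
    have h := huniq _ (hS _ hNf hN0 _ (hT l _ hv0))
      (by simp [smulV, LT, h10, hN0]) (by simp [smulV, LT, hu0])
    have hw : v0.2.2.1 = 0 := by
      have e := congrArg (fun z : V8 f => z.2.2.1) h
      simp only [smulV, LT, Nm] at e
      have e' : ((f l * f (f l)) ^ 2 - 1) * v0.2.2.1 = 0 := by
        field_simp at e
        linear_combination e
      exact (mul_eq_zero.1 e').resolve_left (sub_ne_zero.2 hl)
    obtain ⟨z, hz, hz1, hzne⟩ : ∃ z ∈ S, (z.1 : K) = 0 ∧ z ≠ 0 := by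
      by_cases hd : (v0.2.2.2 : K) = 0
      · refine ⟨_, hN _ hv0, by simp [LN, hd], fun e => ?_⟩
        have := congrArg (fun z : V8 f => (z.2.2.2 : K)) e
        simp [LN, h10] at this
      · obtain ⟨t, ht⟩ := exists_Nm hf hq hK (e := (v0.2.2.2 : K)⁻¹) (inv_mem_Fx v0.2.2.2.2) (inv_ne_zero hd)
        refine ⟨_, hN _ (hA t _ (hN _ hv0)), ?_, fun e => ?_⟩
        · simp [LN, LA, hu0, hw, h10, ht, hd, Tr]
        · have := congrArg (fun z : V8 f => (z.2.2.2 : K)) e
          simp [LN, LA, hd] at this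
    let g : Fu × K ⊕ Fu → ↥S := Sum.elim (fun p => ⟨fam v0 p, hmem _ hv0 p⟩)
      (fun c => ⟨smulV _ c.1.2 z, hS _ _ c.2 _ hz⟩)
    have hg : Function.Injective g := by
      rintro (p | c) (p' | c') h <;> simp only [g, Sum.elim_inl, Sum.elim_inr, Subtype.mk.injEq] at h
      · rw [(hinj _ _ h10 h10 hu0 hu0 p p' h).1]
      · have := congrArg (fun z : V8 f => (z.1 : K)) h
        simp [fam, smulV, LA, h10, hz1] at this
        exact (p.1.2 (by rw [this]; rfl)).elim
      · have := congrArg (fun z : V8 f => (z.1 : K)) h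
        simp [fam, smulV, LA, h10, hz1] at this
        exact (p'.1.2 (by simp [← this])).elim
      · congr 1
        apply Subtype.ext; apply Subtype.ext
        by_contra hcc
        apply hzne
        simp only [smulV, Prod.mk.injEq, Subtype.mk.injEq] at h
        obtain ⟨-, h2, h3, h4⟩ := h
        have k : ∀ a : K, (c.1 : K) * a = (c'.1 : K) * a → a = 0 := fun a ha =>
          (mul_eq_zero.1 (show ((c.1 : K) - c'.1) * a = 0 by rw [sub_mul, ha, sub_self])).resolve_left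
            (sub_ne_zero.2 hcc)
        exact Prod.ext (Subtype.ext hz1) (Prod.ext (k _ h2) (Prod.ext (k _ h3) (Subtype.ext (k _ h4))))
    have := Nat.card_le_card_of_injective g hg
    rw [Nat.card_sum, hFK, hFu, Nat.card_coe_set_eq] at this
    calc (q - 1) * (q ^ 3 + 1) = (q - 1) * q ^ 3 + (q - 1) := by ring
      _ ≤ _ := this
  · push Not at huniq
    obtain ⟨v3, hv3, hk3, hu3, hne⟩ := huniq
    let g : Fu × K ⊕ Fu × K → ↥S := Sum.elim (fun p => ⟨fam v0 p, hmem _ hv0 p⟩)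
      (fun p => ⟨fam v3 p, hmem _ hv3 p⟩)
    have hg : Function.Injective g := by
      rintro (p | p) (p' | p') h <;> simp only [g, Sum.elim_inl, Sum.elim_inr, Subtype.mk.injEq] at h
      · rw [(hinj _ _ h10 h10 hu0 hu0 p p' h).1]
      · exact absurd (hinj _ _ h10 hk3 hu0 hu3 p p' h).2.symm hne
      · exact absurd (hinj _ _ hk3 h10 hu3 hu0 p p' h).2 hne
      · rw [(hinj _ _ hk3 hk3 hu3 hu3 p p' h).1]
    have := Nat.card_le_card_of_injective g hg
    rw [Nat.card_sum, hFK, Nat.card_coe_set_eq] at this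
    refine le_trans ?_ this
    have : 1 ≤ q ^ 3 := Nat.one_le_pow _ _ (by have := two_le hf hq hK; omega)
    rw [← mul_add]
    exact Nat.mul_le_mul_left _ (by omega)

end H35.D4Min
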