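import Cfsg.Agent.H52.DataD4
import Cfsg.Agent.H52.Torus
import Cfsg.Agent.H53.TwistD4Res

/-!
³D₄, any characteristic: the radical of the long root parabolic in coordinates.
-/

set_option autoImplicit false
set_option linter.unusedSectionVars false

open Cfsg.Lie
open scoped MatrixGroups

namespace H35.D4Min

/-- Coordinates of the Heisenberg radical of D₄. -/
@[ext] structure Vec (K : Type*) where
  k : K
  u0 : K
  u1 : K
  u2 : K
  w0 : K
  w1 : K
  w2 : K
  s : K
  e : K

variable {K : Type*} [Field K]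

local notation "x" => H52.rt chevD4

/-- The product of root elements (signs make the Levi action positive). -/
noncomputable def raw (v : Vec K) : GL chevD4.Idx K :=
  x 14 v.k * x 19 (-v.u0) * x 16 v.u1 * x 15 v.u2 * x 17 v.w0 * x 20 (-v.w1) * x 21 (-v.w2) *
    x 22 (-v.s) * x 23 v.e

/-- The cocycle. -/
def coc (v w : Vec K) : K := v.s * w.k - (v.w0 * w.u0 + v.w1 * w.u1 + v.w2 * w.u2)

/-- The product law. -/
def Vec.add' (v w : Vec K) : Vec K :=
  ⟨v.k + w.k, v.u0 + w.u0, v.u1 + w.u1, v.u2 + w.u2, v.w0 + w.w0, v.w1 + w.w1, v.w2 + w.w2,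
    v.s + w.s, v.e + w.e + coc v w⟩

/-- The zero vector. -/
def Vec.zero' : Vec K := ⟨0, 0, 0, 0, 0, 0, 0, 0, 0⟩

theorem x_mul (r : ℕ) (a b : K) : x r a * x r b = x r (a + b) := H52.checkedD4.rt_mul r a b

theorem x_zero (r : ℕ) : x r (0 : K) = 1 := H52.checkedD4.rt_zero r

theorem x_inv (r : ℕ) (a : K) : (x r a)⁻¹ = x r (-a) := H52.checkedD4.rt_inv r a

/-- The check that two root subgroups commute. -/
def commCheck (r s : ℕ) : Bool :=
  decide (r < 24 ∧ s < 24) &&
    (s == r || (decide (s ≠ chevD4.neg r) && (chevD4.commTerms r s).isEmpty))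

theorem x_comm {r s : ℕ} (h : commCheck r s = true) (a b : K) : x r a * x s b = x s b * x r a := by
  simp only [commCheck, Bool.and_eq_true, Bool.or_eq_true, decide_eq_true_eq, beq_iff_eq,
    List.isEmpty_iff] at h
  obtain ⟨⟨h1, h2⟩, rfl | ⟨h3, h4⟩⟩ := h
  · rw [x_mul, x_mul, add_comm]
  · by_cases hrs : s = r
    · subst hrs; rw [x_mul, x_mul, add_comm]
    have := H52.checkedD4.comm_rt (F := K) h1 h2 hrs h3 a b
    simp [H52.wordRt, ChevalleyDatum.commWord, h4] at this
    exact this.symm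

theorem x_comm_mul {r s : ℕ} (h : commCheck r s = true) (a b : K) (g : GL chevD4.Idx K) :
    x r a * (x s b * g) = x s b * (x r a * g) := by
  rw [← mul_assoc, x_comm h, mul_assoc]

/-- The check for `x_r(a) x_s(b) x_r(a)⁻¹ = x_s(b) x_k(m a b)`. -/
def oneCheck (r s k : ℕ) (m : ℤ) : Bool :=
  decide (r < 24 ∧ s < 24 ∧ s ≠ r ∧ s ≠ chevD4.neg r) && commCheck k r &&
    decide (chevD4.commTerms r s = [(k, m, 1, 1)])

theorem x_conj {r s k : ℕ} {m : ℤ} (h : oneCheck r s k m = true) (a b : K) :
    x r a * x s b * (x r a)⁻¹ = x s b * x k ((m : K) * (a * b)) := by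
  simp only [oneCheck, Bool.and_eq_true, decide_eq_true_eq] at h
  obtain ⟨⟨⟨h1, h2, h3, h4⟩, h5⟩, h6⟩ := h
  have hh := H52.checkedD4.comm_rt (F := K) h1 h2 h3 h4 a b
  have e : H52.wordRt chevD4 (chevD4.commWord K r s a b) = x k (-((m : K) * (a * b))) := by
    simp [H52.wordRt, ChevalleyDatum.commWord, h6, mul_assoc]
  rw [e, ← x_inv, eq_mul_inv_iff_mul_eq] at hh
  rw [← hh, mul_assoc (x s b), ← x_comm h5, ← mul_assoc, mul_inv_cancel_right]

/-- Moving one root element past another. -/
theorem x_swap {r s k : ℕ} {m : ℤ} (h : oneCheck r s k m = true) (hs : commCheck k r = true) (a b : K)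
    (g : GL chevD4.Idx K) :
    x r a * (x s b * g) = x s b * (x r a * (x k ((m : K) * (a * b)) * g)) := by
  have e : x r a * x s b = x s b * x k ((m : K) * (a * b)) * x r a := by
    rw [← x_conj h, inv_mul_cancel_right]
  rw [← mul_assoc, e]
  simp only [mul_assoc]
  rw [x_comm_mul hs]

theorem raw_zero : raw (Vec.zero' : Vec K) = 1 := by
  simp [raw, Vec.zero', x_zero]

theorem raw_mul_e (v : Vec K) (b : K) : raw v * x 23 b = raw { v with e := v.e + b } := by
  simp only [raw, mul_assoc, x_mul]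

theorem raw_mul_s (v : Vec K) (b : K) : raw v * x 22 b = raw { v with s := v.s - b } := by
  simp only [raw, mul_assoc]
  rw [x_comm (r := 23) (s := 22) (by decide +kernel), ← mul_assoc (x 22 (-v.s)), x_mul,
    show -(v.s - b) = -v.s + b by ring]

theorem raw_mul_w2 (v : Vec K) (b : K) : raw v * x 21 b = raw { v with w2 := v.w2 - b } := by
  simp only [raw, mul_assoc]
  rw [x_comm (r := 23) (s := 21) (by decide +kernel),
    x_comm_mul (r := 22) (s := 21) (by decide +kernel),
    ← mul_assoc (x 21 (-v.w2)), x_mul, show -(v.w2 - b) = -v.w2 + b by ring]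

theorem raw_mul_w1 (v : Vec K) (b : K) : raw v * x 20 b = raw { v with w1 := v.w1 - b } := by
  simp only [raw, mul_assoc]
  rw [x_comm (r := 23) (s := 20) (by decide +kernel),
    x_comm_mul (r := 22) (s := 20) (by decide +kernel),
    x_comm_mul (r := 21) (s := 20) (by decide +kernel),
    ← mul_assoc (x 20 (-v.w1)), x_mul, show -(v.w1 - b) = -v.w1 + b by ring]

theorem raw_mul_w0 (v : Vec K) (b : K) : raw v * x 17 b = raw { v with w0 := v.w0 + b } := by
  simp only [raw, mul_assoc]
  rw [x_comm (r := 23) (s := 17) (by decide +kernel),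
    x_comm_mul (r := 22) (s := 17) (by decide +kernel),
    x_comm_mul (r := 21) (s := 17) (by decide +kernel),
    x_comm_mul (r := 20) (s := 17) (by decide +kernel),
    ← mul_assoc (x 17 v.w0), x_mul]

theorem raw_mul_u2 (v : Vec K) (b : K) :
    raw v * x 15 b = raw { v with u2 := v.u2 + b, e := v.e - v.w2 * b } := by
  simp only [raw, mul_assoc]
  rw [x_comm (r := 23) (s := 15) (by decide +kernel),
    x_comm_mul (r := 22) (s := 15) (by decide +kernel),
    x_swap (r := 21) (s := 15) (k := 23) (m := 1) (by decide +kernel) (by decide +kernel),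
    x_comm_mul (r := 20) (s := 15) (by decide +kernel),
    x_comm_mul (r := 17) (s := 15) (by decide +kernel),
    ← mul_assoc (x 15 v.u2), x_mul,
    x_comm_mul (r := 23) (s := 22) (by decide +kernel), x_mul,
    show ((1 : ℤ) : K) * (-v.w2 * b) + v.e = v.e - v.w2 * b by push_cast; ring]

theorem raw_mul_u1 (v : Vec K) (b : K) :
    raw v * x 16 b = raw { v with u1 := v.u1 + b, e := v.e - v.w1 * b } := by
  simp only [raw, mul_assoc]
  rw [x_comm (r := 23) (s := 16) (by decide +kernel),
    x_comm_mul (r := 22) (s := 16) (by decide +kernel),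
    x_comm_mul (r := 21) (s := 16) (by decide +kernel),
    x_swap (r := 20) (s := 16) (k := 23) (m := 1) (by decide +kernel) (by decide +kernel),
    x_comm_mul (r := 17) (s := 16) (by decide +kernel),
    x_comm_mul (r := 15) (s := 16) (by decide +kernel),
    ← mul_assoc (x 16 v.u1), x_mul,
    x_comm_mul (r := 23) (s := 21) (by decide +kernel),
    x_comm_mul (r := 23) (s := 22) (by decide +kernel), x_mul,
    show ((1 : ℤ) : K) * (-v.w1 * b) + v.e = v.e - v.w1 * b by push_cast; ring]

theorem raw_mul_u0 (v : Vec K) (b : K) :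
    raw v * x 19 b = raw { v with u0 := v.u0 - b, e := v.e + v.w0 * b } := by
  simp only [raw, mul_assoc]
  rw [x_comm (r := 23) (s := 19) (by decide +kernel),
    x_comm_mul (r := 22) (s := 19) (by decide +kernel),
    x_comm_mul (r := 21) (s := 19) (by decide +kernel),
    x_comm_mul (r := 20) (s := 19) (by decide +kernel),
    x_swap (r := 17) (s := 19) (k := 23) (m := 1) (by decide +kernel) (by decide +kernel),
    x_comm_mul (r := 15) (s := 19) (by decide +kernel),
    x_comm_mul (r := 16) (s := 19) (by decide +kernel),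
    ← mul_assoc (x 19 (-v.u0)), x_mul,
    x_comm_mul (r := 23) (s := 20) (by decide +kernel),
    x_comm_mul (r := 23) (s := 21) (by decide +kernel),
    x_comm_mul (r := 23) (s := 22) (by decide +kernel), x_mul,
    show ((1 : ℤ) : K) * (v.w0 * b) + v.e = v.e + v.w0 * b by push_cast; ring,
    show -(v.u0 - b) = -v.u0 + b by ring]

theorem raw_mul_k (v : Vec K) (b : K) :
    raw v * x 14 b = raw { v with k := v.k + b, e := v.e + v.s * b } := by
  simp only [raw, mul_assoc]
  rw [x_comm (r := 23) (s := 14) (by decide +kernel),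
    x_swap (r := 22) (s := 14) (k := 23) (m := -1) (by decide +kernel) (by decide +kernel),
    x_comm_mul (r := 21) (s := 14) (by decide +kernel),
    x_comm_mul (r := 20) (s := 14) (by decide +kernel),
    x_comm_mul (r := 17) (s := 14) (by decide +kernel),
    x_comm_mul (r := 15) (s := 14) (by decide +kernel),
    x_comm_mul (r := 16) (s := 14) (by decide +kernel),
    x_comm_mul (r := 19) (s := 14) (by decide +kernel),
    ← mul_assoc (x 14 v.k), x_mul, x_mul,
    show ((-1 : ℤ) : K) * (-v.s * b) + v.e = v.e + v.s * b by push_cast; ring]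

theorem raw_mul (v w : Vec K) : raw v * raw w = raw (v.add' w) := by
  conv_lhs => arg 2; rw [raw]
  simp only [← mul_assoc, raw_mul_k, raw_mul_u0, raw_mul_u1, raw_mul_u2, raw_mul_w0,
    raw_mul_w1, raw_mul_w2, raw_mul_s, raw_mul_e]
  congr 1
  ext <;> simp [Vec.add', coc] <;> ring

/-- Inverse in coordinates. -/
def Vec.neg' (v : Vec K) : Vec K :=
  ⟨-v.k, -v.u0, -v.u1, -v.u2, -v.w0, -v.w1, -v.w2, -v.s, -v.e + coc v v⟩

theorem raw_inv (v : Vec K) : (raw v)⁻¹ = raw v.neg' := by
  rw [inv_eq_iff_mul_eq_one, raw_mul, ← raw_zero]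
  congr 1
  ext <;> simp [Vec.add', Vec.neg', Vec.zero', coc] <;> ring

/-- The commutator pairing. -/
theorem raw_conj (v w : Vec K) :
    raw v * raw w * (raw v)⁻¹ = raw w * x 23 (coc v w - coc w v) := by
  rw [raw_inv, raw_mul, raw_mul, raw_mul_e]
  congr 1
  ext <;> simp [Vec.add', Vec.neg', coc] <;> ring

theorem conj_list (n : GL chevD4.Idx K) (L : List (GL chevD4.Idx K)) :
    n * L.prod * n⁻¹ = (L.map fun g => n * g * n⁻¹).prod := by
  induction L with
  | nil => simp
  | cons a L ih => rw [List.map_cons, List.prod_cons, List.prod_cons, ← ih]; group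

/-- Conjugation of a coordinate product by `h`. -/
theorem conj_prod9 (h a b c d e f g i j : GL chevD4.Idx K) :
    h * (a * b * c * d * e * f * g * i * j) * h⁻¹ =
      (h * a * h⁻¹) * (h * b * h⁻¹) * (h * c * h⁻¹) * (h * d * h⁻¹) * (h * e * h⁻¹) * (h * f * h⁻¹) *
        (h * g * h⁻¹) * (h * i * h⁻¹) * (h * j * h⁻¹) := by
  group

theorem x_fix {r s : ℕ} (h : commCheck r s = true) (a b : K) : x r a * x s b * (x r a)⁻¹ = x s b := by
  rw [x_comm h, mul_inv_cancel_right]

/-- Effect of conjugation by `x₁₈(c)`. -/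
def c18 (c : K) (v : Vec K) : Vec K :=
  { v with u0 := v.u0 + c * v.k, w2 := v.w2 + c * v.u1, w1 := v.w1 + c * v.u2,
           s := v.s + c * v.w0, e := v.e - c * v.u1 * v.u2 }

/-- Effect of conjugation by `x₁₃(c)`. -/
def c13 (c : K) (v : Vec K) : Vec K :=
  { v with u1 := v.u1 + c * v.k, w2 := v.w2 + c * v.u0, w0 := v.w0 + c * v.u2,
           s := v.s + c * v.w1, e := v.e - c * v.u0 * v.u2 }

/-- Effect of conjugation by `x₁₂(c)`. -/
def c12 (c : K) (v : Vec K) : Vec K :=
  { v with u2 := v.u2 + c * v.k, w1 := v.w1 + c * v.u0, w0 := v.w0 + c * v.u1,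
           s := v.s + c * v.w2, e := v.e - c * v.u0 * v.u1 }

theorem conj18 (c : K) (v : Vec K) : x 18 c * raw v * (x 18 c)⁻¹ = raw (c18 c v) := by
  rw [show raw v = x 14 v.k * x 19 (-v.u0) * x 16 v.u1 * x 15 v.u2 * x 17 v.w0 * x 20 (-v.w1) *
    x 21 (-v.w2) * x 22 (-v.s) * x 23 v.e from rfl, conj_prod9,
    x_conj (r := 18) (s := 14) (k := 19) (m := -1) (by decide +kernel),
    x_fix (r := 18) (s := 19) (by decide +kernel),
    x_conj (r := 18) (s := 16) (k := 21) (m := -1) (by decide +kernel),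
    x_conj (r := 18) (s := 15) (k := 20) (m := -1) (by decide +kernel),
    x_conj (r := 18) (s := 17) (k := 22) (m := -1) (by decide +kernel),
    x_fix (r := 18) (s := 20) (by decide +kernel), x_fix (r := 18) (s := 21) (by decide +kernel),
    x_fix (r := 18) (s := 22) (by decide +kernel), x_fix (r := 18) (s := 23) (by decide +kernel)]
  rw [← one_mul (_ * x 23 v.e), ← raw_zero]
  simp only [← mul_assoc, raw_mul_k, raw_mul_u0, raw_mul_u1, raw_mul_u2, raw_mul_w0,
    raw_mul_w1, raw_mul_w2, raw_mul_s, raw_mul_e]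
  congr 1
  ext <;> simp [c18, Vec.zero'] <;> ring

theorem conj13 (c : K) (v : Vec K) : x 13 c * raw v * (x 13 c)⁻¹ = raw (c13 c v) := by
  rw [show raw v = x 14 v.k * x 19 (-v.u0) * x 16 v.u1 * x 15 v.u2 * x 17 v.w0 * x 20 (-v.w1) *
    x 21 (-v.w2) * x 22 (-v.s) * x 23 v.e from rfl, conj_prod9,
    x_conj (r := 13) (s := 14) (k := 16) (m := 1) (by decide +kernel),
    x_conj (r := 13) (s := 19) (k := 21) (m := 1) (by decide +kernel),
    x_fix (r := 13) (s := 16) (by decide +kernel),
    x_conj (r := 13) (s := 15) (k := 17) (m := 1) (by decide +kernel),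
    x_fix (r := 13) (s := 17) (by decide +kernel),
    x_conj (r := 13) (s := 20) (k := 22) (m := 1) (by decide +kernel),
    x_fix (r := 13) (s := 21) (by decide +kernel),
    x_fix (r := 13) (s := 22) (by decide +kernel), x_fix (r := 13) (s := 23) (by decide +kernel)]
  rw [← one_mul (_ * x 23 v.e), ← raw_zero]
  simp only [← mul_assoc, raw_mul_k, raw_mul_u0, raw_mul_u1, raw_mul_u2, raw_mul_w0,
    raw_mul_w1, raw_mul_w2, raw_mul_s, raw_mul_e]
  congr 1
  ext <;> simp [c13, Vec.zero'] <;> ring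

theorem conj12 (c : K) (v : Vec K) : x 12 c * raw v * (x 12 c)⁻¹ = raw (c12 c v) := by
  rw [show raw v = x 14 v.k * x 19 (-v.u0) * x 16 v.u1 * x 15 v.u2 * x 17 v.w0 * x 20 (-v.w1) *
    x 21 (-v.w2) * x 22 (-v.s) * x 23 v.e from rfl, conj_prod9,
    x_conj (r := 12) (s := 14) (k := 15) (m := 1) (by decide +kernel),
    x_conj (r := 12) (s := 19) (k := 20) (m := 1) (by decide +kernel),
    x_conj (r := 12) (s := 16) (k := 17) (m := 1) (by decide +kernel),
    x_fix (r := 12) (s := 15) (by decide +kernel),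
    x_fix (r := 12) (s := 17) (by decide +kernel),
    x_fix (r := 12) (s := 20) (by decide +kernel),
    x_conj (r := 12) (s := 21) (k := 22) (m := 1) (by decide +kernel),
    x_fix (r := 12) (s := 22) (by decide +kernel), x_fix (r := 12) (s := 23) (by decide +kernel)]
  rw [← one_mul (_ * x 23 v.e), ← raw_zero]
  simp only [← mul_assoc, raw_mul_k, raw_mul_u0, raw_mul_u1, raw_mul_u2, raw_mul_w0,
    raw_mul_w1, raw_mul_w2, raw_mul_s, raw_mul_e]
  congr 1
  ext <;> simp [c12, Vec.zero'] <;> ring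

theorem nconj {i r : ℕ} (hi : i < 4) (hr : r < 24) (t : K) :
    H52.nElt chevD4 (chevD4.simple i) (1 : K) * x r t * (H52.nElt chevD4 (chevD4.simple i) (1 : K))⁻¹ =
      x (chevD4.reflectRoot i r) ((H52.tablesD4.eps i r : K) * t) :=
  H52.checkedD4.sig_conj_rt hi hr t

/-- The Weyl element of the middle node. -/
noncomputable def nb (K : Type*) [Field K] : GL chevD4.Idx K := H52.nElt chevD4 14 (1 : K)

/-- The Weyl element of the outer nodes. -/
noncomputable def na (K : Type*) [Field K] : GL chevD4.Idx K :=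
  H52.nElt chevD4 18 (1 : K) * H52.nElt chevD4 13 1 * H52.nElt chevD4 12 1

theorem nb_conj {r s : ℕ} (m : ℤ) (hr : r < 24)
    (h : chevD4.reflectRoot 1 r = s ∧ H52.tablesD4.eps 1 r = m) (t : K) :
    nb K * x r t * (nb K)⁻¹ = x s ((m : K) * t) := by
  have := nconj (K := K) (i := 1) (by norm_num) hr t
  rw [show chevD4.simple 1 = 14 by decide +kernel, h.1, h.2] at this
  exact this

/-- The image of a root and its sign under the outer Weyl element. -/
def naImg (r : ℕ) : ℕ × ℤ :=
  let r3 := chevD4.reflectRoot 3 r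
  let r2 := chevD4.reflectRoot 2 r3
  (chevD4.reflectRoot 0 r2, H52.tablesD4.eps 0 r2 * (H52.tablesD4.eps 2 r3 * H52.tablesD4.eps 3 r))

theorem na_conj {r s : ℕ} (m : ℤ) (hr : r < 24) (h1 : chevD4.reflectRoot 3 r < 24)
    (h2 : chevD4.reflectRoot 2 (chevD4.reflectRoot 3 r) < 24) (h : naImg r = (s, m)) (t : K) :
    na K * x r t * (na K)⁻¹ = x s ((m : K) * t) := by
  simp only [naImg, Prod.mk.injEq] at h
  have e3 := nconj (K := K) (i := 3) (by norm_num) hr t
  have e2 := nconj (K := K) (i := 2) (by norm_num) h1 ((H52.tablesD4.eps 3 r : K) * t)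
  have e0 := nconj (K := K) (i := 0) (by norm_num) h2
    ((H52.tablesD4.eps 2 (chevD4.reflectRoot 3 r) : K) * ((H52.tablesD4.eps 3 r : K) * t))
  rw [show chevD4.simple 3 = 12 by decide +kernel] at e3
  rw [show chevD4.simple 2 = 13 by decide +kernel] at e2
  rw [show chevD4.simple 0 = 18 by decide +kernel, h.1] at e0
  have em : (m : K) * t = (H52.tablesD4.eps 0 (chevD4.reflectRoot 2 (chevD4.reflectRoot 3 r)) : K) *
      ((H52.tablesD4.eps 2 (chevD4.reflectRoot 3 r) : K) * ((H52.tablesD4.eps 3 r : K) * t)) := by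
    rw [← h.2]; push_cast; ring
  rw [em, ← e0, ← e2, ← e3, na]
  group

theorem na_raw (v : Vec K) :
    na K * raw v * (na K)⁻¹ = raw ⟨-v.s, v.w0, v.w1, v.w2, -v.u0, -v.u1, -v.u2, v.k,
      v.e - v.s * v.k + (v.w0 * v.u0 + v.w1 * v.u1 + v.w2 * v.u2)⟩ := by
  rw [show raw v = x 14 v.k * x 19 (-v.u0) * x 16 v.u1 * x 15 v.u2 * x 17 v.w0 * x 20 (-v.w1) *
    x 21 (-v.w2) * x 22 (-v.s) * x 23 v.e from rfl, conj_prod9,
    na_conj (r := 14) (s := 22) (-1) (by norm_num) (by decide +kernel) (by decide +kernel) (by decide +kernel),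
    na_conj (r := 19) (s := 17) 1 (by norm_num) (by decide +kernel) (by decide +kernel) (by decide +kernel),
    na_conj (r := 16) (s := 20) 1 (by norm_num) (by decide +kernel) (by decide +kernel) (by decide +kernel),
    na_conj (r := 15) (s := 21) 1 (by norm_num) (by decide +kernel) (by decide +kernel) (by decide +kernel),
    na_conj (r := 17) (s := 19) (-1) (by norm_num) (by decide +kernel) (by decide +kernel) (by decide +kernel),
    na_conj (r := 20) (s := 16) (-1) (by norm_num) (by decide +kernel) (by decide +kernel) (by decide +kernel),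
    na_conj (r := 21) (s := 15) (-1) (by norm_num) (by decide +kernel) (by decide +kernel) (by decide +kernel),
    na_conj (r := 22) (s := 14) 1 (by norm_num) (by decide +kernel) (by decide +kernel) (by decide +kernel),
    na_conj (r := 23) (s := 23) 1 (by norm_num) (by decide +kernel) (by decide +kernel) (by decide +kernel)]
  rw [← one_mul (_ * x 23 (((1 : ℤ) : K) * v.e)), ← raw_zero]
  simp only [← mul_assoc, raw_mul_k, raw_mul_u0, raw_mul_u1, raw_mul_u2, raw_mul_w0,
    raw_mul_w1, raw_mul_w2, raw_mul_s, raw_mul_e]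
  congr 1
  ext <;> simp [Vec.zero'] <;> ring

/-- The weight of a root at a torus parameter. -/
def wt (c : Fin chevD4.rank → Kˣ) (r : ℕ) : K :=
  ((∏ i : Fin chevD4.rank, c i ^ chevD4.cartan i.val r : Kˣ) : K)

theorem torus_x (c : Fin chevD4.rank → Kˣ) {r : ℕ} (hr : r < 24) (t : K) :
    H52.torus chevD4 c * x r t * (H52.torus chevD4 c)⁻¹ = x r (wt c r * t) :=
  H52.checkedD4.torus_conj_rt c hr t

theorem torus_raw (c : Fin chevD4.rank → Kˣ) (v : Vec K) :
    H52.torus chevD4 c * raw v * (H52.torus chevD4 c)⁻¹ =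
      raw ⟨wt c 14 * v.k, wt c 19 * v.u0, wt c 16 * v.u1, wt c 15 * v.u2, wt c 17 * v.w0,
        wt c 20 * v.w1, wt c 21 * v.w2, wt c 22 * v.s, wt c 23 * v.e⟩ := by
  simp only [raw, conj_prod9, torus_x c (show 14 < 24 by norm_num), torus_x c (show 19 < 24 by norm_num),
    torus_x c (show 16 < 24 by norm_num), torus_x c (show 15 < 24 by norm_num),
    torus_x c (show 17 < 24 by norm_num), torus_x c (show 20 < 24 by norm_num),
    torus_x c (show 21 < 24 by norm_num), torus_x c (show 22 < 24 by norm_num),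
    torus_x c (show 23 < 24 by norm_num), mul_neg]

end H35.D4Min
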