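import Cfsg.Agent.H35.D4Min.Coord
import Cfsg.Agent.H52.RankOne

/-!
³D₄(q): the radical `Q`, the pairing on `Q/Z`, elements normalising `Q`.
-/

set_option autoImplicit false
set_option linter.unusedSectionVars false

open Cfsg.Lie
open scoped MatrixGroups

namespace H35.D4Min

variable {K : Type*} [Field K]

local notation "x" => H52.rt chevD4

/-- The hypotheses on `q` and the Frobenius map `f`. -/
structure Frob (q : ℕ) (f : K ≃+* K) : Prop where
  eq : ∀ t, f t = t ^ q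
  three : ∀ t, f (f (f t)) = t

/-- The fixed field, as an additive group. -/
def Fx (f : K ≃+* K) : AddSubgroup K where
  carrier := {t | f t = t}
  add_mem' {a b} ha hb := by simp only [Set.mem_setOf_eq] at *; rw [map_add, ha, hb]
  zero_mem' := map_zero f
  neg_mem' {a} ha := by simp only [Set.mem_setOf_eq] at *; rw [map_neg, ha]

theorem mem_Fx {f : K ≃+* K} {t : K} : t ∈ Fx f ↔ f t = t := Iff.rfl

theorem mul_mem_Fx {f : K ≃+* K} {a b : K} (ha : a ∈ Fx f) (hb : b ∈ Fx f) : a * b ∈ Fx f := by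
  rw [mem_Fx] at *; rw [map_mul, ha, hb]

theorem inv_mem_Fx {f : K ≃+* K} {a : K} (ha : a ∈ Fx f) : a⁻¹ ∈ Fx f := by
  rw [mem_Fx] at *; rw [map_inv₀, ha]

theorem one_mem_Fx (f : K ≃+* K) : (1 : K) ∈ Fx f := map_one f

/-- The group `Q/Z`. -/
abbrev V8 (f : K ≃+* K) : Type _ := ↥(Fx f) × K × K × ↥(Fx f)

/-- Twisted coordinates. -/
def tv (f : K ≃+* K) (v : V8 f) (e : K) : Vec K :=
  ⟨v.1, v.2.1, f v.2.1, f (f v.2.1), v.2.2.1, f v.2.2.1, f (f v.2.2.1), v.2.2.2, e⟩

/-- The trace to the fixed field. -/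
def Tr (f : K ≃+* K) (t : K) : K := t + f t + f (f t)

/-- The norm to the fixed field. -/
def Nm (f : K ≃+* K) (t : K) : K := t * f t * f (f t)

variable {q : ℕ} {f : K ≃+* K} (hf : Frob q f)
include hf

theorem Tr_mem (t : K) : Tr f t ∈ Fx f := by
  rw [mem_Fx, Tr, map_add, map_add, hf.three]; ring

theorem Nm_mem (t : K) : Nm f t ∈ Fx f := by
  rw [mem_Fx, Nm, map_mul, map_mul, hf.three]; ring

theorem coc_tv (v w : V8 f) (a b : K) :
    coc (tv f v a) (tv f w b) = (v.2.2.2 : K) * w.1 - Tr f (v.2.2.1 * w.2.1) := by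
  simp [coc, tv, Tr]

theorem coc_tv_mem (v w : V8 f) (a b : K) : coc (tv f v a) (tv f w b) ∈ Fx f := by
  rw [coc_tv hf]; exact sub_mem (mul_mem_Fx v.2.2.2.2 w.1.2) (Tr_mem hf _)

theorem tA_mem (t : K) : x 18 t * x 13 (f t) * x 12 (f (f t)) ∈ twistedD4 K q := by
  have h := H53.D4T.triple_mem q (a := 18) (b := 13) (c := 12) (by decide) t
  rw [H53.D4T.sq_pow, ← hf.eq, ← hf.eq] at h
  exact h

theorem k_mem {k : K} (hk : f k = k) : x 14 k ∈ twistedD4 K q :=
  H53.D4T.single_mem (by decide) (by rw [← hf.eq, hk])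

theorem qqq (t : K) : ((t ^ q) ^ q) ^ q = t := by rw [← hf.eq, ← hf.eq, ← hf.eq, hf.three]

theorem nb_mem : nb K ∈ twistedD4 K q := by
  have h := H53.D4T.mk_mem (qqq hf) (0 : Fin 2)
  rw [Subgroup.mem_subgroupOf, H53.D4T.coe_mk] at h
  have e : ((H53.D4T.spec.word 0).map fun i => H52.nElt chevD4 (chevD4.simple i.val) (1 : K)).prod =
      nb K :=
    (mul_one _).trans (congrArg (fun z => H52.nElt chevD4 z (1 : K)) (H53.D4T.simple_val (1 : Fin 4)).1)
  rwa [e] at h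

theorem na_mem : na K ∈ twistedD4 K q := by
  have h := H53.D4T.mk_mem (qqq hf) (1 : Fin 2)
  rw [Subgroup.mem_subgroupOf, H53.D4T.coe_mk] at h
  have e : ((H53.D4T.spec.word 1).map fun i => H52.nElt chevD4 (chevD4.simple i.val) (1 : K)).prod =
      na K := by
    show H52.nElt chevD4 (chevD4.simple (0 : Fin 4).val) (1 : K) *
      (H52.nElt chevD4 (chevD4.simple (2 : Fin 4).val) 1 *
        (H52.nElt chevD4 (chevD4.simple (3 : Fin 4).val) 1 * 1)) = _
    rw [(H53.D4T.simple_val 0).1, (H53.D4T.simple_val 2).1, (H53.D4T.simple_val 3).1, mul_one, ← mul_assoc]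
    rfl
  rwa [e] at h

theorem u_mem (u : K) : raw ⟨0, u, f u, f (f u), 0, 0, 0, 0, 0⟩ ∈ twistedD4 K q := by
  have h := conj_list (nb K) [x 18 (-u), x 13 (f (-u)), x 12 (f (f (-u)))]
  simp only [List.map_cons, List.map_nil, List.prod_cons, List.prod_nil, mul_one] at h
  rw [nb_conj (r := 18) (s := 19) 1 (by norm_num) (by decide +kernel),
    nb_conj (r := 13) (s := 16) (-1) (by norm_num) (by decide +kernel),
    nb_conj (r := 12) (s := 15) (-1) (by norm_num) (by decide +kernel)] at h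
  have e : raw ⟨0, u, f u, f (f u), 0, 0, 0, 0, 0⟩ =
      nb K * (x 18 (-u) * (x 13 (f (-u)) * x 12 (f (f (-u))))) * (nb K)⁻¹ := by
    rw [h]; simp [raw, x_zero, mul_assoc]
  rw [e, ← mul_assoc (x 18 (-u))]
  exact mul_mem (mul_mem (nb_mem hf) (tA_mem hf _)) (inv_mem (nb_mem hf))

theorem k_raw_mem {k : K} (hk : f k = k) : raw ⟨k, 0, 0, 0, 0, 0, 0, 0, 0⟩ ∈ twistedD4 K q := by
  simpa [raw, x_zero] using k_mem hf hk

theorem w_mem (w : K) : raw ⟨0, 0, 0, 0, w, f w, f (f w), 0, 0⟩ ∈ twistedD4 K q := by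
  have h := na_raw (⟨0, -w, f (-w), f (f (-w)), 0, 0, 0, 0, 0⟩ : Vec K)
  simp only [map_neg, neg_neg, mul_zero, zero_mul, add_zero, sub_zero, neg_zero] at h
  rw [← h]
  refine mul_mem (mul_mem (na_mem hf) ?_) (inv_mem (na_mem hf))
  have := u_mem hf (-w)
  simpa only [map_neg] using this

theorem s_mem {s : K} (hs : f s = s) : raw ⟨0, 0, 0, 0, 0, 0, 0, s, 0⟩ ∈ twistedD4 K q := by
  have h := na_raw (⟨s, 0, 0, 0, 0, 0, 0, 0, 0⟩ : Vec K)
  simp only [mul_zero, zero_mul, add_zero, sub_zero, neg_zero] at h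
  rw [← h]
  exact mul_mem (mul_mem (na_mem hf) (k_raw_mem hf hs)) (inv_mem (na_mem hf))

theorem e_mem {e : K} (he : f e = e) : x 23 e ∈ twistedD4 K q := by
  have h := nb_conj (K := K) (r := 22) (s := 23) 1 (by norm_num) (by decide +kernel) e
  rw [Int.cast_one, one_mul] at h
  rw [← h]
  refine mul_mem (mul_mem (nb_mem hf) ?_) (inv_mem (nb_mem hf))
  simpa [raw, x_zero] using s_mem hf (show f (-e) = -e by rw [map_neg, he])

theorem tv_mem (v : V8 f) {e : K} (he : f e = e) : raw (tv f v e) ∈ twistedD4 K q := by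
  have h := mul_mem (mul_mem (mul_mem (mul_mem (k_raw_mem hf v.1.2) (u_mem hf v.2.1))
    (w_mem hf v.2.2.1)) (s_mem hf v.2.2.2.2)) (e_mem hf he)
  rw [raw_mul, raw_mul, raw_mul, raw_mul_e] at h
  simpa [Vec.add', coc, tv] using h

/-- The element of `Q` over a point of `Q/Z`. -/
noncomputable def yG (v : V8 f) : ↥(twistedD4 K q) := ⟨raw (tv f v 0), tv_mem hf v (map_zero f)⟩

/-- The centre `Z` of `Q`. -/
noncomputable def zG : Multiplicative ↥(Fx f) →* ↥(twistedD4 K q) where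
  toFun e := ⟨x 23 ((Multiplicative.toAdd e : ↥(Fx f)) : K), e_mem hf (Multiplicative.toAdd e).2⟩
  map_one' := Subtype.ext (x_zero 23)
  map_mul' a b := Subtype.ext (x_mul 23 _ _).symm

theorem coe_zG (e : ↥(Fx f)) : (zG hf (.ofAdd e) : GL chevD4.Idx K) = x 23 (e : K) := rfl

theorem zG_injective : Function.Injective (zG hf) := fun a b h =>
  Multiplicative.toAdd.injective (Subtype.ext (H52.checkedD4.rt_injective (r := 23) (by decide)
    (congrArg Subtype.val h)))

theorem raw_tv (v : V8 f) {e : K} (he : e ∈ Fx f) :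
    (yG hf v * zG hf (.ofAdd ⟨e, he⟩) : GL chevD4.Idx K) = raw (tv f v e) := by
  show raw (tv f v 0) * x 23 e = _
  rw [raw_mul_e]; simp [tv]

/-- The cocycle of `Q`. -/
def cocV (v w : V8 f) : ↥(Fx f) := ⟨coc (tv f v 0) (tv f w 0), coc_tv_mem hf v w 0 0⟩

/-- The commutator pairing. -/
def B (v w : V8 f) : ↥(Fx f) := cocV hf v w - cocV hf w v

theorem coe_B (v w : V8 f) : (B hf v w : K) =
    (v.2.2.2 : K) * w.1 - Tr f (v.2.2.1 * w.2.1) - ((w.2.2.2 : K) * v.1 - Tr f (w.2.2.1 * v.2.1)) := by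
  simp [B, cocV, coc_tv hf]

theorem B_add (v a b : V8 f) : B hf v (a + b) = B hf v a + B hf v b := by
  apply Subtype.ext
  simp only [AddMemClass.coe_add, coe_B hf, Prod.fst_add, Prod.snd_add, Tr, map_add, map_mul, add_mul,
    mul_add]
  ring

theorem B_add_left (a b v : V8 f) : B hf (a + b) v = B hf a v + B hf b v := by
  apply Subtype.ext
  simp only [AddMemClass.coe_add, coe_B hf, Prod.fst_add, Prod.snd_add, Tr, map_add, map_mul, add_mul,
    mul_add]
  ring

theorem yG_mul (v w : V8 f) : yG hf v * yG hf w = yG hf (v + w) * zG hf (.ofAdd (cocV hf v w)) := by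
  apply Subtype.ext
  show raw _ * raw _ = raw _ * x 23 _
  rw [raw_mul, raw_mul_e]
  congr 1
  ext <;> simp [Vec.add', tv, cocV]

theorem yG_conj (v w : V8 f) :
    yG hf v * yG hf w * (yG hf v)⁻¹ = yG hf w * zG hf (.ofAdd (B hf v w)) := by
  apply Subtype.ext
  show raw _ * raw _ * (raw _)⁻¹ = raw _ * x 23 _
  rw [raw_conj]
  rfl

theorem zG_comm (e : Multiplicative ↥(Fx f)) (v : V8 f) : Commute (zG hf e) (yG hf v) := by
  apply Subtype.ext
  show x 23 (e.toAdd : K) * raw (tv f v 0) = raw (tv f v 0) * x 23 (e.toAdd : K)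
  have h : x 23 (e.toAdd : K) = raw ⟨0, 0, 0, 0, 0, 0, 0, 0, (e.toAdd : K)⟩ := by simp [raw, x_zero]
  rw [h, raw_mul, raw_mul]
  congr 1
  ext <;> simp [Vec.add', coc, tv]

/-- `g` normalises `Q` and `Z`, with given effect. -/
def Acts (g : ↥(twistedD4 K q)) (L : V8 f → V8 f) (γ : ↥(Fx f) → ↥(Fx f)) : Prop :=
  (∀ v, ∃ e, g * yG hf v * g⁻¹ = yG hf (L v) * zG hf (.ofAdd e)) ∧
    ∀ e, g * zG hf (.ofAdd e) * g⁻¹ = zG hf (.ofAdd (γ e))

theorem Acts.B_map {g : ↥(twistedD4 K q)} {L : V8 f → V8 f} {γ : ↥(Fx f) → ↥(Fx f)}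
    (h : Acts hf g L γ) (v w : V8 f) : B hf (L v) (L w) = γ (B hf v w) := by
  obtain ⟨a, ha⟩ := h.1 v
  obtain ⟨b, hb⟩ := h.1 w
  have key : ∀ p : ↥(twistedD4 K q), ∀ z : ↥(twistedD4 K q), (∀ u, Commute z (yG hf u)) →
      ∀ u, Commute z p → (yG hf u * z) * p * (yG hf u * z)⁻¹ = yG hf u * p * (yG hf u)⁻¹ := by
    intro p z _ u hc
    rw [mul_inv_rev, show yG hf u * z * p * (z⁻¹ * (yG hf u)⁻¹) =
      yG hf u * (z * p * z⁻¹) * (yG hf u)⁻¹ by group, hc.eq, mul_inv_cancel_right]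
  have e := congrArg (MulAut.conj g) (yG_conj hf v w)
  simp only [map_mul, map_inv] at e
  simp only [MulAut.conj_apply] at e
  rw [ha, hb, h.2, key (yG hf (L w) * zG hf (.ofAdd b)) (zG hf (.ofAdd a)) (fun u => zG_comm hf (.ofAdd a) u)
      (L v) ((zG_comm hf (.ofAdd a) (L w)).mul_right
        ((Commute.all (Multiplicative.ofAdd a) (Multiplicative.ofAdd b)).map (zG hf)))] at e
  have e1 : yG hf (L v) * (yG hf (L w) * zG hf (.ofAdd b)) * (yG hf (L v))⁻¹ =
      yG hf (L w) * zG hf (.ofAdd (B hf (L v) (L w))) * zG hf (.ofAdd b) := by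
    rw [← yG_conj, show yG hf (L v) * (yG hf (L w) * zG hf (.ofAdd b)) * (yG hf (L v))⁻¹ =
      yG hf (L v) * yG hf (L w) * (zG hf (.ofAdd b) * (yG hf (L v))⁻¹) by group,
      (zG_comm hf (.ofAdd b) (L v)).inv_right.eq]
    group
  rw [e1, mul_assoc, mul_assoc, ← map_mul (zG hf), ← map_mul (zG hf)] at e
  have e' := congrArg Multiplicative.toAdd (zG_injective hf (mul_left_cancel e))
  simp only [toAdd_mul, toAdd_ofAdd] at e'
  rw [add_comm b] at e'
  exact add_right_cancel e'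

/-- The effect of `tA t`. -/
def LA (t : K) (v : V8 f) : V8 f :=
  (v.1, v.2.1 + t * v.1,
    v.2.2.1 + f (f t) * f v.2.1 + f t * f (f v.2.1) + f t * f (f t) * v.1,
    ⟨(v.2.2.2 : K) + Tr f (t * v.2.2.1) + Tr f (f t * f (f t) * v.2.1) + Nm f t * v.1,
      add_mem (add_mem (add_mem v.2.2.2.2 (Tr_mem hf _)) (Tr_mem hf _))
        (mul_mem_Fx (Nm_mem hf t) v.1.2)⟩)

theorem acts_tA (t : K) : Acts hf ⟨_, tA_mem hf t⟩ (LA hf t) id := by
  have hk : ∀ v : Vec K, (x 18 t * x 13 (f t) * x 12 (f (f t))) * raw v *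
      (x 18 t * x 13 (f t) * x 12 (f (f t)))⁻¹ = raw (c18 t (c13 (f t) (c12 (f (f t)) v))) := by
    intro v
    rw [← conj18, ← conj13, ← conj12]
    group
  refine ⟨fun v => ?_, fun e => ?_⟩
  · have hmem : -(Tr f (f (f t) * v.2.1 * f v.2.1) +
        (v.1 : K) * Tr f (f t * f (f t) * v.2.1) + (v.1 : K) * v.1 * Nm f t) ∈ Fx f :=
      neg_mem (add_mem (add_mem (Tr_mem hf _) (mul_mem_Fx v.1.2 (Tr_mem hf _)))
        (mul_mem_Fx (mul_mem_Fx v.1.2 v.1.2) (Nm_mem hf t)))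
    refine ⟨⟨_, hmem⟩, Subtype.ext ?_⟩
    show (x 18 t * x 13 (f t) * x 12 (f (f t))) * raw (tv f v 0) *
      (x 18 t * x 13 (f t) * x 12 (f (f t)))⁻¹ = _
    rw [Subgroup.coe_mul, raw_tv hf, hk]
    congr 1
    have hk1 : f (v.1 : K) = v.1 := v.1.2
    ext <;> simp [c18, c13, c12, tv, LA, Tr, Nm, hf.three, hk1] <;> ring
  · refine Subtype.ext ?_
    show (x 18 t * x 13 (f t) * x 12 (f (f t))) * x 23 (e : K) *
      (x 18 t * x 13 (f t) * x 12 (f (f t)))⁻¹ = x 23 (e : K)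
    have h := hk ⟨0, 0, 0, 0, 0, 0, 0, 0, (e : K)⟩
    simpa [raw, x_zero, c18, c13, c12] using h

/-- The effect of `na`. -/
def LN (v : V8 f) : V8 f := (-v.2.2.2, v.2.2.1, -v.2.1, v.1)

theorem acts_na : Acts hf ⟨_, na_mem hf⟩ (LN (f := f)) id := by
  refine ⟨fun v => ⟨⟨-((v.2.2.2 : K) * v.1) + Tr f (v.2.2.1 * v.2.1),
    add_mem (neg_mem (mul_mem_Fx v.2.2.2.2 v.1.2)) (Tr_mem hf _)⟩, Subtype.ext ?_⟩, fun e => Subtype.ext ?_⟩
  · show na K * raw (tv f v 0) * (na K)⁻¹ = _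
    rw [Subgroup.coe_mul, raw_tv hf, na_raw]
    congr 1
    ext <;> simp [tv, LN, Tr] <;> ring
  · show na K * x 23 (e : K) * (na K)⁻¹ = x 23 (e : K)
    have h := na_raw (⟨0, 0, 0, 0, 0, 0, 0, 0, (e : K)⟩ : Vec K)
    simpa [raw, x_zero] using h

theorem comm_n {a b : ℕ} (ha : a ∈ [18, 13, 12]) (hb : b ∈ [18, 13, 12]) (hne : b ≠ a)
    (t u : K) : Commute (H52.nElt chevD4 a t) (H52.nElt chevD4 b u) := by
  have six : ∀ {a b : ℕ}, a ∈ [18, 13, 12] → b ∈ [18, 13, 12] → b ≠ a →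
      (a ∈ [18, 13, 12, 5, 10, 11] ∧ chevD4.neg a ∈ [18, 13, 12, 5, 10, 11]) ∧
      b ≠ chevD4.neg a ∧ chevD4.neg b ≠ chevD4.neg a ∧
      b ≠ chevD4.neg (chevD4.neg a) ∧ chevD4.neg b ≠ chevD4.neg (chevD4.neg a) := by
    intro a b ha hb hne
    simp only [List.mem_cons, List.not_mem_nil, or_false] at ha hb
    rcases ha with rfl | rfl | rfl <;> rcases hb with rfl | rfl | rfl <;>
      first | exact absurd rfl hne | decide +kernel
  obtain ⟨⟨a1, a2⟩, n1, n2, n3, n4⟩ := six ha hb hne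
  obtain ⟨⟨b1, b2⟩, -⟩ := six hb ha (Ne.symm hne)
  rw [H52.Checked.nElt_eq, H52.Checked.nElt_eq]
  have k1 : ∀ y : K, Commute (x a y) (x b u * x (chevD4.neg b) (-u⁻¹) * x b u) := fun y =>
    ((H53.D4T.rt_comm a1 b1 n1 y u).mul_right (H53.D4T.rt_comm a1 b2 n2 y (-u⁻¹))).mul_right
      (H53.D4T.rt_comm a1 b1 n1 y u)
  have k2 : ∀ y : K, Commute (x (chevD4.neg a) y) (x b u * x (chevD4.neg b) (-u⁻¹) * x b u) := fun y =>
    ((H53.D4T.rt_comm a2 b1 n3 y u).mul_right (H53.D4T.rt_comm a2 b2 n4 y (-u⁻¹))).mul_right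
      (H53.D4T.rt_comm a2 b1 n3 y u)
  exact ((k1 t).mul_left (k2 (-t⁻¹))).mul_left (k1 t)

theorem n_triple_mem (t : K) :
    H52.nElt chevD4 18 t * H52.nElt chevD4 13 (f t) * H52.nElt chevD4 12 (f (f t)) ∈ twistedD4 K q := by
  have e1 := tA_mem hf t
  have e2 : x 5 (-t⁻¹) * x 10 (-(f t)⁻¹) * x 11 (-(f (f t))⁻¹) ∈ twistedD4 K q := by
    have := H53.D4T.triple_mem q (a := 5) (b := 10) (c := 11) (by decide) (-t⁻¹)
    rw [H53.D4T.sq_pow, ← hf.eq, ← hf.eq] at this
    simpa using this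
  have h := mul_mem (mul_mem e1 e2) e1
  have c : ∀ {a b : ℕ}, a ∈ [18, 13, 12, 5, 10, 11] → b ∈ [18, 13, 12, 5, 10, 11] →
      b ≠ chevD4.neg a → ∀ y z : K, Commute (x a y) (x b z) := fun ha hb h y z => H53.D4T.rt_comm ha hb h y z
  rw [H52.Checked.nElt_eq, H52.Checked.nElt_eq, H52.Checked.nElt_eq,
    show chevD4.neg 18 = 5 by decide +kernel, show chevD4.neg 13 = 10 by decide +kernel,
    show chevD4.neg 12 = 11 by decide +kernel]
  rw [H53.mul3_comm (c (by decide) (by decide) (by decide +kernel) _ _) (c (by decide) (by decide) (by decide +kernel) _ _)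
      (c (by decide) (by decide) (by decide +kernel) _ _),
    H53.mul3_comm ((c (by decide) (by decide) (by decide +kernel) _ _).mul_left (c (by decide) (by decide) (by decide +kernel) _ _))
      ((c (by decide) (by decide) (by decide +kernel) _ _).mul_left (c (by decide) (by decide) (by decide +kernel) _ _))
      ((c (by decide) (by decide) (by decide +kernel) _ _).mul_left (c (by decide) (by decide) (by decide +kernel) _ _))]
  exact h

omit hf in
/-- Torus coordinates. -/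
def tc (f : K ≃+* K) (c d : Kˣ) : Fin chevD4.rank → Kˣ :=
  fun i => [c, d, Units.map f.toMonoidHom c, Units.map f.toMonoidHom (Units.map f.toMonoidHom c)].getD i.val 1

/-- The twisted torus. -/
theorem torus_mem (c d : Kˣ) (hd : f (d : K) = d) :
    H52.torus chevD4 (F := K) (tc f c d) ∈ twistedD4 K q := by
  rw [H52.checkedD4.torus_eq_prod]
  have hl : List.finRange chevD4.rank = [⟨0, by decide⟩, ⟨1, by decide⟩, ⟨2, by decide⟩, ⟨3, by decide⟩] := rfl
  rw [hl]
  simp only [List.map_cons, List.map_nil, List.prod_cons, List.prod_nil, mul_one,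
    show chevD4.simple 0 = 18 by decide +kernel, show chevD4.simple 1 = 14 by decide +kernel,
    show chevD4.simple 2 = 13 by decide +kernel, show chevD4.simple 3 = 12 by decide +kernel]
  show H52.hElt chevD4 18 (c : K) * (H52.hElt chevD4 14 (d : K) *
    (H52.hElt chevD4 13 (f c) * H52.hElt chevD4 12 (f (f c)))) ∈ _
  have h14 : H52.hElt chevD4 14 (d : K) ∈ twistedD4 K q := by
    have hn : ∀ t : K, f t = t → H52.nElt chevD4 14 t ∈ twistedD4 K q := fun t ht => by
      rw [H52.Checked.nElt_eq, show chevD4.neg 14 = 9 by decide +kernel]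
      have h9 : x 9 (-t⁻¹) ∈ twistedD4 K q :=
        H53.D4T.single_mem (by decide) (by rw [← hf.eq, map_neg, map_inv₀, ht])
      exact mul_mem (mul_mem (k_mem hf ht) h9) (k_mem hf ht)
    rw [H52.Checked.hElt_eq]
    exact mul_mem (hn _ hd) (hn _ (by rw [map_neg, map_one]))
  have hcomm : Commute (H52.hElt chevD4 18 (c : K)) (H52.hElt chevD4 14 (d : K)) := by
    rw [H52.checkedD4.hElt_eq_torus (r := 18) (by decide) c,
      H52.checkedD4.hElt_eq_torus (r := 14) (by decide) d]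
    show _ * _ = _ * _
    rw [← map_mul, ← map_mul, mul_comm]
  rw [← mul_assoc, hcomm.eq, mul_assoc]
  refine mul_mem h14 ?_
  have e := mul_mem (n_triple_mem hf (c : K)) (n_triple_mem hf (-1 : K))
  simp only [map_neg, map_one] at e
  convert e using 1
  simp only [H52.Checked.hElt_eq]
  set a := H52.nElt chevD4 18 (c : K)
  set a' := H52.nElt chevD4 18 (-1 : K)
  set b := H52.nElt chevD4 13 (f c)
  set b' := H52.nElt chevD4 13 (-1 : K)
  set d' := H52.nElt chevD4 12 (f (f c))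
  have k1 : Commute a' b := comm_n hf (by decide) (by decide) (by decide) _ _
  have k2 : Commute a' d' := comm_n hf (by decide) (by decide) (by decide) _ _
  have k3 : Commute b' d' := comm_n hf (by decide) (by decide) (by decide) _ _
  calc a * a' * (b * b' * (d' * H52.nElt chevD4 12 (-1 : K)))
      = a * (a' * b) * (b' * d') * H52.nElt chevD4 12 (-1 : K) := by group
    _ = a * b * (a' * d') * b' * H52.nElt chevD4 12 (-1 : K) := by rw [k1.eq, k3.eq]; group
    _ = _ := by rw [k2.eq]; group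

omit hf in
/-- The Cartan integers used. -/
theorem cartan_table :
    [14, 19, 16, 15, 17, 20, 21, 22, 23].map (fun r => (List.range 4).map fun i => chevD4.cartan i r) =
      [[-1, 2, -1, -1], [1, 1, -1, -1], [-1, 1, 1, -1], [-1, 1, -1, 1], [-1, 0, 1, 1], [1, 0, -1, 1],
        [1, 0, 1, -1], [1, -1, 1, 1], [0, 1, 0, 0]] := by decide +kernel

omit hf in
theorem wt_eq (c d : Kˣ) {r : ℕ} {a b a2 a3 : ℤ} (h0 : chevD4.cartan 0 r = a) (h1 : chevD4.cartan 1 r = b)
    (h2 : chevD4.cartan 2 r = a2) (h3 : chevD4.cartan 3 r = a3) :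
    wt (tc f c d) r = (c : K) ^ a * (d : K) ^ b * f c ^ a2 * f (f c) ^ a3 := by
  show ((∏ i : Fin 4, tc f c d i ^ chevD4.cartan i.val r : Kˣ) : K) = _
  rw [Fin.prod_univ_four]
  simp [tc, h0, h1, h2, h3, Units.val_zpow_eq_zpow_val]

/-- The effect of a torus element. -/
def LT (c d : Kˣ) (hd : f (d : K) = d) (v : V8 f) : V8 f :=
  (⟨(d : K) ^ 2 * (Nm f c)⁻¹ * v.1,
      mul_mem_Fx (mul_mem_Fx (by rw [mem_Fx, map_pow, hd]) (inv_mem_Fx (Nm_mem hf c))) v.1.2⟩,
    (d : K) * c * (f c * f (f c))⁻¹ * v.2.1, f c * f (f c) * (c : K)⁻¹ * v.2.2.1,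
    ⟨Nm f c * (d : K)⁻¹ * v.2.2.2,
      mul_mem_Fx (mul_mem_Fx (Nm_mem hf c) (inv_mem_Fx hd)) v.2.2.2.2⟩)

/-- The scalar effect on `Z`. -/
def mulFx (d : K) (hd : f d = d) (e : ↥(Fx f)) : ↥(Fx f) := ⟨d * e, mul_mem_Fx hd e.2⟩

theorem acts_torus (c d : Kˣ) (hd : f (d : K) = d) :
    Acts hf ⟨_, torus_mem hf c d hd⟩ (LT hf c d hd) (mulFx (f := f) (d : K) hd) := by
  have w14 := wt_eq (f := f) c d (r := 14) (a := -1) (b := 2) (a2 := -1) (a3 := -1) (by decide +kernel)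
    (by decide +kernel) (by decide +kernel) (by decide +kernel)
  have w19 := wt_eq (f := f) c d (r := 19) (a := 1) (b := 1) (a2 := -1) (a3 := -1) (by decide +kernel)
    (by decide +kernel) (by decide +kernel) (by decide +kernel)
  have w16 := wt_eq (f := f) c d (r := 16) (a := -1) (b := 1) (a2 := 1) (a3 := -1) (by decide +kernel)
    (by decide +kernel) (by decide +kernel) (by decide +kernel)
  have w15 := wt_eq (f := f) c d (r := 15) (a := -1) (b := 1) (a2 := -1) (a3 := 1) (by decide +kernel)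
    (by decide +kernel) (by decide +kernel) (by decide +kernel)
  have w17 := wt_eq (f := f) c d (r := 17) (a := -1) (b := 0) (a2 := 1) (a3 := 1) (by decide +kernel)
    (by decide +kernel) (by decide +kernel) (by decide +kernel)
  have w20 := wt_eq (f := f) c d (r := 20) (a := 1) (b := 0) (a2 := -1) (a3 := 1) (by decide +kernel)
    (by decide +kernel) (by decide +kernel) (by decide +kernel)
  have w21 := wt_eq (f := f) c d (r := 21) (a := 1) (b := 0) (a2 := 1) (a3 := -1) (by decide +kernel)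
    (by decide +kernel) (by decide +kernel) (by decide +kernel)
  have w22 := wt_eq (f := f) c d (r := 22) (a := 1) (b := -1) (a2 := 1) (a3 := 1) (by decide +kernel)
    (by decide +kernel) (by decide +kernel) (by decide +kernel)
  have w23 := wt_eq (f := f) c d (r := 23) (a := 0) (b := 1) (a2 := 0) (a3 := 0) (by decide +kernel)
    (by decide +kernel) (by decide +kernel) (by decide +kernel)
  refine ⟨fun v => ⟨0, Subtype.ext ?_⟩, fun e => Subtype.ext ?_⟩
  · show H52.torus chevD4 (tc f c d) * raw (tv f v 0) * (H52.torus chevD4 (tc f c d))⁻¹ = _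
    rw [show (0 : ↥(Fx f)) = ⟨0, zero_mem _⟩ from rfl, Subgroup.coe_mul, raw_tv hf, torus_raw, w14, w19, w16, w15, w17, w20,
      w21, w22, w23]
    congr 1
    ext <;> simp [tv, LT, Nm, hf.three, hd, zpow_neg] <;> first | ring1 | exact Or.inl (by ring1)
  · show H52.torus chevD4 (tc f c d) * x 23 (e : K) * (H52.torus chevD4 (tc f c d))⁻¹ = x 23 ((d : K) * e)
    rw [torus_x _ (by norm_num), w23]
    simp

end H35.D4Min
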